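import Mathlib

/-!
Bounds on the least common multiple of numbers `q ^ h + 1` and `q ^ d - 1`.
-/

set_option autoImplicit false

namespace CfsgLib.ReciprocalOrder

open Finset

variable {q : ℕ}

theorem prod_range_fermat (hq : 1 ≤ q) (M : ℕ) :
    (q - 1) * ∏ v ∈ range M, (q ^ 2 ^ v + 1) + 1 = q ^ 2 ^ M := by
  induction M with
  | zero => simp; omega
  | succ M ih =>
    rw [prod_range_succ, ← mul_assoc, pow_succ 2 M, pow_mul q (2 ^ M) 2]
    set P := (q - 1) * ∏ v ∈ range M, (q ^ 2 ^ v + 1)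
    rw [← ih]
    ring

theorem mul_pow_sum_range (M : ℕ) : q * q ^ ∑ v ∈ range M, 2 ^ v = q ^ 2 ^ M := by
  induction M with
  | zero => simp
  | succ M ih => rw [sum_range_succ, pow_add, ← mul_assoc, ih, ← pow_add, pow_succ, mul_two]

theorem prod_fermat_le (hq : 1 ≤ q) (V : Finset ℕ) :
    (q - 1) * ∏ v ∈ V, (q ^ 2 ^ v + 1) ≤ q * q ^ (∑ v ∈ V, 2 ^ v) := by
  obtain ⟨M, hM⟩ := Finset.exists_nat_subset_range V
  refine Nat.le_of_mul_le_mul_right ?_ (show 0 < q ^ ∑ v ∈ range M \ V, 2 ^ v by positivity)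
  rw [mul_assoc, mul_assoc, ← pow_add, add_comm (∑ v ∈ V, 2 ^ v), sum_sdiff hM, mul_pow_sum_range]
  calc (q - 1) * ((∏ v ∈ V, (q ^ 2 ^ v + 1)) * q ^ ∑ v ∈ range M \ V, 2 ^ v)
      ≤ (q - 1) * ((∏ v ∈ V, (q ^ 2 ^ v + 1)) * ∏ v ∈ range M \ V, (q ^ 2 ^ v + 1)) := by
        refine Nat.mul_le_mul_left _ (Nat.mul_le_mul_left _ ?_)
        rw [← prod_pow_eq_pow_sum]
        exact prod_le_prod' fun v _ => Nat.le_succ _
    _ = (q - 1) * ∏ v ∈ range M, (q ^ 2 ^ v + 1) := by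
        rw [mul_comm (∏ v ∈ V, _), prod_sdiff hM]
    _ ≤ q ^ 2 ^ M := (Nat.le_succ _).trans (prod_range_fermat hq M).le

theorem exists_lcm_plus_bound (hq : 2 ≤ q) (H : Finset ℕ) (hH : ∀ h ∈ H, 1 ≤ h) :
    H.lcm (fun h => q ^ h + 1) * q ^ (∑ v ∈ H.image (Nat.factorization · 2), 2 ^ v) ≤
      q ^ (∑ h ∈ H, h) * ∏ v ∈ H.image (Nat.factorization · 2), (q ^ 2 ^ v + 1) := by
  induction H using Finset.induction with
  | empty => simp
  | insert a H haH ih =>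
    specialize ih fun h hh => hH h (mem_insert_of_mem hh)
    have ha := hH a (mem_insert_self a H)
    set V := H.image (Nat.factorization · 2)
    set v := a.factorization 2 with hv
    set L := H.lcm fun h => q ^ h + 1
    have hva : 2 ^ v ≤ a := Nat.le_of_dvd ha (Nat.ordProj_dvd a 2)
    rw [Finset.lcm_insert, sum_insert haH, image_insert, pow_add, ← hv]
    by_cases hvV : v ∈ V
    · rw [insert_eq_of_mem hvV]
      obtain ⟨h, hh, hhv⟩ := mem_image.1 hvV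
      have hg : ∀ x : ℕ, x ≠ 0 → q ^ 2 ^ x.factorization 2 + 1 ∣ q ^ x + 1 := fun x hx => by
        have ho : Odd (x / 2 ^ x.factorization 2) := by
          rw [Nat.odd_iff]
          have := Nat.not_dvd_ordCompl Nat.prime_two hx
          omega
        have h1 := ho.nat_add_dvd_pow_add_pow (q ^ 2 ^ x.factorization 2) 1
        rwa [one_pow, ← pow_mul, Nat.ordProj_mul_ordCompl_eq_self] at h1
      have hga : q ^ 2 ^ v + 1 ∣ q ^ a + 1 := hg a (by omega)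
      have hgL : q ^ 2 ^ v + 1 ∣ L := by
        have h1 := hg h (by have := hH h (mem_insert_of_mem hh); omega)
        rw [hhv] at h1
        exact h1.trans (Finset.dvd_lcm hh)
      have h1 : GCDMonoid.lcm (q ^ a + 1) L * (q ^ 2 ^ v + 1) ≤ (q ^ a + 1) * L := by
        conv_rhs => rw [← Nat.gcd_mul_lcm (q ^ a + 1) L, mul_comm]
        exact Nat.mul_le_mul_left _
          (Nat.le_of_dvd (Nat.gcd_pos_of_pos_left _ (Nat.succ_pos _)) (Nat.dvd_gcd hga hgL))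
      refine Nat.le_of_mul_le_mul_right ?_ (show 0 < q ^ 2 ^ v + 1 by omega)
      calc GCDMonoid.lcm (q ^ a + 1) L * q ^ (∑ w ∈ V, 2 ^ w) * (q ^ 2 ^ v + 1)
          = GCDMonoid.lcm (q ^ a + 1) L * (q ^ 2 ^ v + 1) * q ^ (∑ w ∈ V, 2 ^ w) := by ring
        _ ≤ (q ^ a + 1) * L * q ^ (∑ w ∈ V, 2 ^ w) := Nat.mul_le_mul_right _ h1
        _ ≤ (q ^ a + 1) * (q ^ (∑ h ∈ H, h) * ∏ w ∈ V, (q ^ 2 ^ w + 1)) := by
            rw [mul_assoc]; exact Nat.mul_le_mul_left _ ih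
        _ ≤ (q ^ a * (q ^ 2 ^ v + 1)) * (q ^ (∑ h ∈ H, h) * ∏ w ∈ V, (q ^ 2 ^ w + 1)) := by
            refine Nat.mul_le_mul_right _ ?_
            have := Nat.one_le_pow (2 ^ v) q (by omega)
            have := Nat.one_le_pow a q (by omega)
            nlinarith
        _ = _ := by ring
    · rw [sum_insert hvV, prod_insert hvV, pow_add]
      have h1 : GCDMonoid.lcm (q ^ a + 1) L ≤ (q ^ a + 1) * L := by
        rcases Nat.eq_zero_or_pos L with h | h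
        · simp [h]
        · exact Nat.le_of_dvd (Nat.mul_pos (Nat.succ_pos _) h) (Nat.lcm_dvd_mul _ _)
      calc GCDMonoid.lcm (q ^ a + 1) L * (q ^ 2 ^ v * q ^ (∑ w ∈ V, 2 ^ w))
          ≤ (q ^ a + 1) * L * (q ^ 2 ^ v * q ^ (∑ w ∈ V, 2 ^ w)) := Nat.mul_le_mul_right _ h1
        _ = (q ^ a + 1) * q ^ 2 ^ v * (L * q ^ (∑ w ∈ V, 2 ^ w)) := by ring
        _ ≤ q ^ a * (q ^ 2 ^ v + 1) * (q ^ (∑ h ∈ H, h) * ∏ w ∈ V, (q ^ 2 ^ w + 1)) := by
            refine Nat.mul_le_mul ?_ ih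
            rw [add_mul, one_mul, mul_add, mul_one]
            exact Nat.add_le_add_left (Nat.pow_le_pow_right (by omega) hva) _
        _ = _ := by ring

theorem lcm_plus_le (hq : 2 ≤ q) (H : Finset ℕ) (hH : ∀ h ∈ H, 1 ≤ h) :
    (q - 1) * H.lcm (fun h => q ^ h + 1) ≤ q * q ^ (∑ h ∈ H, h) := by
  have h1 := exists_lcm_plus_bound hq H hH
  set V := H.image (Nat.factorization · 2)
  have h2 := prod_fermat_le (q := q) (by omega) V
  refine Nat.le_of_mul_le_mul_right ?_ (show 0 < q ^ (∑ v ∈ V, 2 ^ v) by positivity)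
  calc (q - 1) * H.lcm (fun h => q ^ h + 1) * q ^ (∑ v ∈ V, 2 ^ v)
      ≤ (q - 1) * (q ^ (∑ h ∈ H, h) * ∏ v ∈ V, (q ^ 2 ^ v + 1)) := by
        rw [mul_assoc]; exact Nat.mul_le_mul_left _ h1
    _ = q ^ (∑ h ∈ H, h) * ((q - 1) * ∏ v ∈ V, (q ^ 2 ^ v + 1)) := by ring
    _ ≤ q ^ (∑ h ∈ H, h) * (q * q ^ (∑ v ∈ V, 2 ^ v)) := Nat.mul_le_mul_left _ h2
    _ = _ := by ring

theorem lcm_minus_le (H : Finset ℕ) :
    H.lcm (fun d => q ^ d - 1) ≤ q ^ ∑ d ∈ H, d := by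
  rw [← prod_pow_eq_pow_sum]
  induction H using Finset.induction with
  | empty => simp
  | insert a H haH ih =>
    rw [lcm_insert, prod_insert haH]
    rcases Nat.eq_zero_or_pos ((q ^ a - 1) * H.lcm fun d => q ^ d - 1) with h | h
    · rcases Nat.mul_eq_zero.1 h with h | h <;> simp [h]
    · exact (Nat.le_of_dvd h (Nat.lcm_dvd_mul _ _)).trans (Nat.mul_le_mul (Nat.sub_le _ _) ih)

end CfsgLib.ReciprocalOrder
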