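import Mathlib
import Cfsg.Agent.Lib.ReciprocalOrder.Lcm
import Cfsg.Agent.Lib.SpecSp.Classify
import Cfsg.Agent.Lib.SpecLin.SemisimpleOrder

/-!
A self-reciprocal polynomial of degree at most `2m + 1` over a finite field with `q` elements
divides some `X ^ k - ν`, `ν = ±1`, with `(q - 1) k ≤ q ^ (m + 1)`.
-/

set_option autoImplicit false

namespace CfsgLib.ReciprocalOrder

open Polynomial UniqueFactorizationMonoid Finset

variable {F : Type*} [Field F]

theorem two_mul_le_two_pow (k : ℕ) : 2 * k ≤ 2 ^ k := by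
  induction k with
  | zero => simp
  | succ k ih =>
    rcases k with _ | k
    · simp
    · have : 2 ≤ 2 ^ (k + 1) := Nat.le_self_pow (by omega) 2
      rw [pow_succ]; omega

theorem two_mul_succ_le_three_pow (k : ℕ) : 2 * k + 1 ≤ 3 ^ k := by
  induction k with
  | zero => simp
  | succ k ih => rw [pow_succ]; omega

theorem two_mul_le_three_pow_pred {m : ℕ} (hm : 3 ≤ m) : 2 * m ≤ 3 ^ (m - 1) := by
  induction m, hm using Nat.le_induction with
  | base => norm_num
  | succ m hm ih =>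
    rw [show m + 1 - 1 = m - 1 + 1 by omega, pow_succ]
    omega

theorem reverse_pow_eq (P : F[X]) (e : ℕ) : (P ^ e).reverse = P.reverse ^ e := by
  induction e with
  | zero => rw [pow_zero, pow_zero, ← C_1, reverse_C]
  | succ e ih => rw [pow_succ, pow_succ, reverse_mul_of_domain, ih]

theorem reverse_dvd_reverse {P Q : F[X]} (h : P ∣ Q) : P.reverse ∣ Q.reverse := by
  obtain ⟨R, rfl⟩ := h
  exact ⟨R.reverse, reverse_mul_of_domain _ _⟩

/-- Every prime of `2S` weight is counted twice, so the distinct degrees are bounded by the degrees. -/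
theorem two_mul_sum_image_le {α : Type*} [DecidableEq α] (s : Finset α) (g : α → ℕ)
    (h : ∀ a ∈ s, ∃ b ∈ s, b ≠ a ∧ g b = g a) :
    2 * ∑ d ∈ s.image g, d ≤ ∑ a ∈ s, g a := by
  rw [mul_sum, Finset.sum_comp (fun d => d) g]
  refine sum_le_sum fun d hd => ?_
  obtain ⟨a, ha, rfl⟩ := mem_image.1 hd
  obtain ⟨b, hb, hba, hgb⟩ := h a ha
  rw [smul_eq_mul]
  exact Nat.mul_le_mul_right _ (one_lt_card.2 ⟨b, mem_filter.2 ⟨hb, hgb⟩, a, mem_filter.2 ⟨ha, rfl⟩, hba⟩)

variable [Fintype F]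

set_option maxHeartbeats 800000 in
open Classical in
theorem exists_exponent {μ : F[X]} {m N : ℕ} (hμ : μ ≠ 0) (h0 : μ.coeff 0 ≠ 0) (hrev : μ ∣ μ.reverse)
    (hdeg : μ.natDegree ≤ N) (hm : 2 ≤ m) (hN : N = 2 * m ∨ (N = 2 * m + 1 ∧ 3 ≤ m ∧ (2 : F) ≠ 0)) :
    ∃ k, 0 < k ∧ ∃ ν : F, ν * ν = 1 ∧ μ ∣ X ^ k - C ν ∧
      (Fintype.card F - 1) * k ≤ Fintype.card F ^ (m + 1) := by
  obtain ⟨p, hp⟩ := CharP.exists F
  have hpp : p.Prime := CharP.char_is_prime F p
  have : Fact p.Prime := ⟨hpp⟩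
  obtain ⟨n, -, hn⟩ := FiniteField.card F p
  set q := Fintype.card F with hq
  have hq2 : 2 ≤ q := hq ▸ Fintype.one_lt_card
  have hpq : p ≤ q := hn ▸ Nat.le_self_pow n.ne_zero p
  have hp3 : (2 : F) ≠ 0 → 3 ≤ p := fun h2 => by
    by_contra hlt
    obtain rfl : p = 2 := by have := hpp.two_le; omega
    exact h2 (CharP.cast_eq_zero F 2)
  -- factors
  set Φ := (normalizedFactors μ).toFinset with hΦdef
  set e : F[X] → ℕ := fun φ => (normalizedFactors μ).count φ with he
  have hmem : ∀ {φ}, φ ∈ Φ → φ ∈ normalizedFactors μ := fun h => Multiset.mem_toFinset.1 h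
  have hirr : ∀ {φ}, φ ∈ Φ → Irreducible φ := fun h => irreducible_of_normalized_factor _ (hmem h)
  have hmon : ∀ {φ}, φ ∈ Φ → φ.Monic := fun {φ} h => by
    rw [← normalize_normalized_factor _ (hmem h)]
    exact monic_normalize (hirr h).ne_zero
  have hc0 : ∀ {φ}, φ ∈ Φ → φ.coeff 0 ≠ 0 := fun h =>
    SpecSp.coeff_zero_ne_zero_of_dvd (dvd_of_mem_normalizedFactors (hmem h)) h0
  have heq : ∀ {φ ψ}, φ ∈ Φ → ψ ∈ Φ → φ ∣ ψ → φ = ψ := fun hφ hψ h =>
    eq_of_monic_of_associated (hmon hφ) (hmon hψ) ((hirr hφ).associated_of_dvd (hirr hψ) h)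
  have hassoc : Associated (∏ φ ∈ Φ, φ ^ e φ) μ := by
    rw [hΦdef, he, ← prod_multiset_count]
    exact prod_normalizedFactors hμ
  have hsum : ∑ φ ∈ Φ, e φ * φ.natDegree ≤ N := by
    refine le_trans (le_of_eq ?_) hdeg
    rw [← natDegree_eq_of_degree_eq (degree_eq_degree_of_associated hassoc),
      natDegree_prod _ _ fun φ h => pow_ne_zero _ (hirr h).ne_zero]
    simp [natDegree_pow]
  have he1 : ∀ {φ}, φ ∈ Φ → 1 ≤ e φ := fun h => Multiset.count_pos.2 (hmem h)
  -- divisibility by powers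
  have hdvd : ∀ (Q : F[X]) (E : ℕ), (∀ φ ∈ Φ, φ ∣ Q ∧ e φ ≤ E) → μ ∣ Q ^ E := fun Q E h => by
    refine hassoc.symm.dvd.trans (Finset.prod_dvd_of_coprime (fun φ hφ ψ hψ hne => ?_) fun φ hφ => ?_)
    · exact (((hirr hφ).coprime_iff_not_dvd).2 fun hd => hne (heq hφ hψ hd)).pow
    · exact (pow_dvd_pow _ (h φ hφ).2).trans (pow_dvd_pow_of_dvd (h φ hφ).1 E)
  -- the partner of a factor
  have hμrev : μ.reverse ∣ μ :=
    (associated_of_dvd_of_natDegree_le hrev (by simpa using hμ)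
      (SpecSp.natDegree_reverse_eq h0).le).symm.dvd
  have hpartner : ∀ {φ}, φ ∈ Φ → ¬ φ ∣ φ.reverse → ∃ ψ ∈ Φ, ψ ≠ φ ∧ ¬ ψ ∣ ψ.reverse ∧
      ψ.natDegree = φ.natDegree ∧ e φ ≤ e ψ := by
    intro φ hφ hns
    have hri : Irreducible φ.reverse := SpecSp.irreducible_reverse (hirr hφ) (hc0 hφ)
    have hA : Associated (normalize φ.reverse) φ.reverse := normalize_associated _
    have hpow : φ.reverse ^ e φ ∣ μ := by
      refine Dvd.dvd.trans ?_ hμrev
      rw [← reverse_pow_eq]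
      exact reverse_dvd_reverse ((dvd_prod_of_mem (fun φ => φ ^ e φ) hφ).trans hassoc.dvd)
    have hcount : e φ ≤ e (normalize φ.reverse) := by
      have h1 := (dvd_iff_normalizedFactors_le_normalizedFactors (pow_ne_zero _ hri.ne_zero) hμ).1 hpow
      rw [normalizedFactors_pow, normalizedFactors_irreducible hri] at h1
      have h2 := Multiset.count_le_of_le (normalize φ.reverse) h1
      simpa [Multiset.count_nsmul] using h2
    have hψ : normalize φ.reverse ∈ Φ :=
      Multiset.mem_toFinset.2 (Multiset.count_pos.1 (lt_of_lt_of_le (he1 hφ) hcount))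
    refine ⟨_, hψ, ?_, ?_, ?_, hcount⟩
    · exact fun h => hns ((dvd_of_eq h.symm).trans hA.dvd)
    · intro hs
      have h1 : φ.reverse.reverse ∣ φ.reverse :=
        (reverse_dvd_reverse hA.symm.dvd).trans
          ((((hirr hψ).associated_of_dvd (SpecSp.irreducible_reverse (hirr hψ) (hc0 hψ)) hs).symm.dvd).trans
            hA.dvd)
      rw [SpecSp.reverse_reverse_eq (hc0 hφ)] at h1
      exact hns h1
    · rw [natDegree_eq_of_degree_eq (degree_eq_degree_of_associated hA),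
        SpecSp.natDegree_reverse_eq (hc0 hφ)]
  -- self-reciprocal factors
  have hself : ∀ {φ}, φ ∈ Φ → φ ∣ φ.reverse → ¬ φ ∣ X ^ 2 - 1 → 1 ≤ φ.natDegree / 2 ∧
      2 * (φ.natDegree / 2) = φ.natDegree ∧ φ ∣ X ^ (q ^ (φ.natDegree / 2) + 1) - 1 := by
    intro φ hφ hs h1
    have hroot : ∀ {j : ℕ}, AdjoinRoot.root φ ^ j = 1 → φ ∣ X ^ j - 1 := fun h => by
      rw [← AdjoinRoot.mk_eq_zero]; simp [h]
    rcases SpecSp.self_reciprocal' (hirr hφ) (hc0 hφ) hs with h | ⟨h, hh, hd, hr⟩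
    · exact absurd (hroot h) h1
    · rw [hd, Nat.mul_div_cancel_left h two_pos]
      exact ⟨hh, rfl, hroot hr⟩
  set T2 := Φ.filter fun φ => φ ∣ φ.reverse ∧ ¬ φ ∣ X ^ 2 - 1 with hT2
  set T3 := Φ.filter fun φ => ¬ φ ∣ φ.reverse with hT3
  set T1 := Φ.filter fun φ => φ ∣ φ.reverse ∧ φ ∣ X ^ 2 - 1 with hT1
  have hcover : ∀ {φ}, φ ∈ Φ → φ ∈ T1 ∨ φ ∈ T2 ∨ φ ∈ T3 := fun {φ} h => by
    simp only [hT1, hT2, hT3, mem_filter, h, true_and]; tauto
  have hsplit : ∑ φ ∈ T1, e φ * φ.natDegree + (∑ φ ∈ T2, e φ * φ.natDegree +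
      ∑ φ ∈ T3, e φ * φ.natDegree) ≤ N := by
    refine le_trans (le_of_eq ?_) hsum
    rw [← sum_filter_add_sum_filter_not Φ (fun φ => φ ∣ φ.reverse), hT1, hT2, hT3, ← add_assoc,
      ← filter_filter, ← filter_filter, sum_filter_add_sum_filter_not]
  by_cases hne : T2 = ∅ ∧ T3 = ∅
  · -- only roots `±1`
    have hall : ∀ φ ∈ Φ, φ ∣ X ^ 2 - 1 := fun φ hφ => by
      rcases hcover hφ with h | h | h
      · exact (mem_filter.1 h).2.2
      · simp [hne.1] at h
      · simp [hne.2] at h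
    by_cases hone : ∃ ν : F, ν * ν = 1 ∧ ∀ φ ∈ Φ, φ ∣ X - C ν
    · obtain ⟨ν, hν, hall'⟩ := hone
      refine ⟨p ^ m, pow_pos hpp.pos m, ν ^ p ^ m, by rw [← mul_pow, hν, one_pow], ?_, ?_⟩
      · have h1 := hdvd (X - C ν) (p ^ m) fun φ hφ => ⟨hall' φ hφ, ?_⟩
        · rwa [sub_pow_char_pow, ← C_pow] at h1
        have hle : e φ ≤ N := by
          have := single_le_sum (f := fun φ => e φ * φ.natDegree) (fun _ _ => Nat.zero_le _) hφ
          have := Nat.le_mul_of_pos_right (e φ) (hirr hφ).natDegree_pos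
          omega
        rcases hN with rfl | ⟨rfl, -, h2⟩
        · exact hle.trans ((two_mul_le_two_pow m).trans (Nat.pow_le_pow_left hpp.two_le m))
        · exact hle.trans ((two_mul_succ_le_three_pow m).trans (Nat.pow_le_pow_left (hp3 h2) m))
      · rw [pow_succ' q m]
        exact Nat.mul_le_mul (Nat.sub_le _ _) (Nat.pow_le_pow_left hpq m)
    · push Not at hone
      have hfac : ∀ {φ}, φ ∈ Φ → φ = X - C (1 : F) ∨ φ = X - C (-1 : F) := fun {φ} hφ => by
        have h1 : φ ∣ (X - C (1 : F)) * (X - C (-1 : F)) := by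
          convert hall φ hφ using 1
          rw [C_neg, C_1]; ring
        rcases (hirr hφ).prime.dvd_or_dvd h1 with h | h
        · exact .inl (eq_of_monic_of_associated (hmon hφ) (monic_X_sub_C _)
            ((hirr hφ).associated_of_dvd (irreducible_X_sub_C _) h))
        · exact .inr (eq_of_monic_of_associated (hmon hφ) (monic_X_sub_C _)
            ((hirr hφ).associated_of_dvd (irreducible_X_sub_C _) h))
      obtain ⟨α, hα, hα'⟩ := hone 1 (mul_one 1)
      obtain ⟨β, hβ, hβ'⟩ := hone (-1) (by ring)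
      have hαe : α = X - C (-1 : F) := (hfac hα).resolve_left fun h => hα' (h ▸ dvd_rfl)
      have hβe : β = X - C (1 : F) := (hfac hβ).resolve_right fun h => hβ' (h ▸ dvd_rfl)
      have h2 : (2 : F) ≠ 0 := fun h2 => hα' (by
        rw [hαe, show (-1 : F) = 1 by linear_combination -h2])
      have hlt : ∀ φ ∈ Φ, e φ + 1 ≤ N := fun φ hφ => by
        obtain ⟨ψ, hψ, hψne⟩ : ∃ ψ ∈ Φ, ψ ≠ φ := by
          by_cases h : φ = α
          · exact ⟨β, hβ, fun h' => hα' (by rw [← h, ← h', hβe])⟩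
          · exact ⟨α, hα, Ne.symm h⟩
        have h1 := add_sum_erase Φ (fun φ => e φ * φ.natDegree) hφ
        have h3 := single_le_sum (f := fun φ => e φ * φ.natDegree) (fun _ _ => Nat.zero_le _)
          (mem_erase.2 ⟨hψne, hψ⟩)
        have h4 := Nat.le_mul_of_pos_right (e φ) (hirr hφ).natDegree_pos
        have h5 := Nat.mul_pos (he1 hψ) (hirr hψ).natDegree_pos
        omega
      refine ⟨2 * p ^ (m - 1), Nat.mul_pos two_pos (pow_pos hpp.pos _), 1, mul_one 1, ?_, ?_⟩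
      · have h1 := hdvd (X ^ 2 - 1) (p ^ (m - 1)) fun φ hφ => ⟨hall φ hφ, ?_⟩
        · rwa [sub_pow_char_pow, one_pow, ← pow_mul, ← C_1] at h1
        have := hlt φ hφ
        have h3 : 3 ^ (m - 1) ≤ p ^ (m - 1) := Nat.pow_le_pow_left (hp3 h2) _
        rcases Nat.lt_or_ge m 3 with hm3 | hm3
        · obtain rfl : m = 2 := by omega
          norm_num at h3 ⊢
          omega
        · have := two_mul_le_three_pow_pred hm3
          omega
      · calc (q - 1) * (2 * p ^ (m - 1)) ≤ q * (q * q ^ (m - 1)) :=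
              Nat.mul_le_mul (Nat.sub_le _ _) (Nat.mul_le_mul hq2 (Nat.pow_le_pow_left hpq _))
          _ = q ^ (m + 1) := by rw [← mul_assoc, ← pow_two, ← pow_add]; congr 1; omega
  · -- some other root
    set Hp := T2.image fun φ => φ.natDegree / 2 with hHp
    set Hm := T3.image natDegree with hHm
    have hdeg23 : ∀ (T : Finset F[X]), T ⊆ Φ → ∑ φ ∈ T, e φ * φ.natDegree =
        ∑ φ ∈ T, φ.natDegree + ∑ φ ∈ T, (e φ - 1) * φ.natDegree := fun T hT => by
      rw [← sum_add_distrib]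
      refine sum_congr rfl fun φ hφ => ?_
      obtain ⟨k, hk⟩ := Nat.exists_eq_add_of_le (he1 (hT hφ))
      rw [hk, Nat.add_sub_cancel_left, add_mul, one_mul]
    have h2sum : 2 * ∑ h ∈ Hp, h ≤ ∑ φ ∈ T2, φ.natDegree := by
      rw [hHp]
      refine (Nat.mul_le_mul_left 2 (sum_image_le_of_nonneg fun _ _ => Nat.zero_le _)).trans ?_
      rw [mul_sum]
      exact sum_le_sum fun φ _ => Nat.mul_div_le _ _
    have h3sum : 2 * ∑ d ∈ Hm, d ≤ ∑ φ ∈ T3, φ.natDegree :=
      two_mul_sum_image_le T3 natDegree fun φ hφ => by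
        obtain ⟨ψ, hψ, hne, hns, hd, -⟩ := hpartner (mem_filter.1 hφ).1 (mem_filter.1 hφ).2
        exact ⟨ψ, mem_filter.2 ⟨hψ, hns⟩, hne, hd⟩
    rw [hdeg23 T2 (filter_subset _ _), hdeg23 T3 (filter_subset _ _)] at hsplit
    set S := ∑ h ∈ Hp, h + ∑ d ∈ Hm, d with hS
    have hSm : 2 * S ≤ N := by omega
    have hbound : ∀ φ ∈ Φ, e φ ≤ p ^ (m - S) := by
      intro φ hφ
      rcases hcover hφ with h | h | h
      · have h1 := single_le_sum (f := fun φ => e φ * φ.natDegree) (fun _ _ => Nat.zero_le _) h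
        have h4 := Nat.le_mul_of_pos_right (e φ) (hirr hφ).natDegree_pos
        rcases hN with rfl | ⟨rfl, -, h2⟩
        · exact le_trans (by omega) ((two_mul_le_two_pow (m - S)).trans
            (Nat.pow_le_pow_left hpp.two_le _))
        · exact le_trans (by omega) ((two_mul_succ_le_three_pow (m - S)).trans
            (Nat.pow_le_pow_left (hp3 h2) _))
      · have h1 := single_le_sum (f := fun φ => (e φ - 1) * φ.natDegree) (fun _ _ => Nat.zero_le _) h
        have h4 : (e φ - 1) * 2 ≤ (e φ - 1) * φ.natDegree := by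
          obtain ⟨hh, hd, -⟩ := hself hφ (mem_filter.1 h).2.1 (mem_filter.1 h).2.2
          exact Nat.mul_le_mul_left _ (by omega)
        have := Nat.lt_pow_self (n := m - S) hpp.one_lt
        rcases hN with rfl | ⟨rfl, -, -⟩ <;> omega
      · obtain ⟨ψ, hψ, hne, hns, hd, hle⟩ := hpartner hφ (mem_filter.1 h).2
        have h1 : (e φ - 1) * φ.natDegree + (e ψ - 1) * ψ.natDegree ≤
            ∑ χ ∈ T3, (e χ - 1) * χ.natDegree := by
          rw [← sum_pair (f := fun χ => (e χ - 1) * χ.natDegree) (Ne.symm hne)]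
          exact sum_le_sum_of_subset (by
            rw [insert_subset_iff, singleton_subset_iff]
            exact ⟨h, mem_filter.2 ⟨hψ, hns⟩⟩)
        have h4 := Nat.le_mul_of_pos_right (e φ - 1) (hirr hφ).natDegree_pos
        have h5 := Nat.le_mul_of_pos_right (e ψ - 1) (hirr hψ).natDegree_pos
        have := Nat.lt_pow_self (n := m - S) hpp.one_lt
        rcases hN with rfl | ⟨rfl, -, -⟩ <;> omega
    set L := Nat.lcm (Hp.lcm fun h => q ^ h + 1) (Hm.lcm fun d => q ^ d - 1) with hL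
    have hHp1 : ∀ h ∈ Hp, 1 ≤ h := fun h hh => by
      obtain ⟨φ, hφ, rfl⟩ := mem_image.1 hh
      exact (hself (mem_filter.1 hφ).1 (mem_filter.1 hφ).2.1 (mem_filter.1 hφ).2.2).1
    have hHm1 : ∀ d ∈ Hm, 1 ≤ d := fun d hd => by
      obtain ⟨φ, hφ, rfl⟩ := mem_image.1 hd
      exact (hirr (mem_filter.1 hφ).1).natDegree_pos
    have hqd : ∀ d ∈ Hm, q ^ d - 1 ≠ 0 := fun d hd => by
      have := Nat.one_lt_pow (n := d) (a := q) (by have := hHm1 d hd; omega) (by omega)
      omega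
    have hL0 : 0 < L := Nat.pos_of_ne_zero (Nat.lcm_ne_zero
      (by simp [Finset.lcm_eq_zero_iff]) (by simpa [Finset.lcm_eq_zero_iff] using hqd))
    have hLq : (q - 1) * L ≤ q * q ^ S := by
      refine (Nat.mul_le_mul_left _ (Nat.le_of_dvd ?_ (Nat.lcm_dvd_mul _ _))).trans ?_
      · rw [Nat.pos_iff_ne_zero, mul_ne_zero_iff]
        exact ⟨by simp [Finset.lcm_eq_zero_iff], by simpa [Finset.lcm_eq_zero_iff] using hqd⟩
      · rw [hS, pow_add, ← mul_assoc, ← mul_assoc]
        exact Nat.mul_le_mul (lcm_plus_le hq2 Hp hHp1) (lcm_minus_le Hm)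
    have hdL : ∀ {j : ℕ}, j ∣ L → ∀ {φ : F[X]}, φ ∣ X ^ j - 1 → φ ∣ X ^ L - 1 := by
      rintro j ⟨i, hi⟩ φ hφ
      rw [hi, pow_mul]
      exact hφ.trans (sub_one_dvd_pow_sub_one _ _)
    have heven : (2 : F) ≠ 0 → 2 ∣ L := fun h2 => by
      have hqo : Odd q := by
        rw [hn]
        exact (hpp.odd_of_ne_two (by have := hp3 h2; omega)).pow
      rw [not_and_or, ← Ne, ← Ne, ← nonempty_iff_ne_empty, ← nonempty_iff_ne_empty] at hne
      rcases hne with ⟨φ, hφ⟩ | ⟨φ, hφ⟩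
      · refine (Even.two_dvd ?_).trans ((Finset.dvd_lcm (f := fun h => q ^ h + 1)
          (mem_image_of_mem (fun φ => φ.natDegree / 2) hφ)).trans (Nat.dvd_lcm_left _ _))
        exact hqo.pow.add_one
      · refine (Even.two_dvd ?_).trans ((Finset.dvd_lcm (f := fun d => q ^ d - 1)
          (mem_image_of_mem natDegree hφ)).trans (Nat.dvd_lcm_right _ _))
        exact Nat.Odd.sub_odd hqo.pow odd_one
    refine ⟨L * p ^ (m - S), Nat.mul_pos hL0 (pow_pos hpp.pos _), 1, mul_one 1, ?_, ?_⟩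
    · have h1 := hdvd (X ^ L - 1) (p ^ (m - S)) fun φ hφ => ⟨?_, hbound φ hφ⟩
      · rwa [sub_pow_char_pow, one_pow, ← pow_mul, ← C_1] at h1
      rcases hcover hφ with h | h | h
      · by_cases h2 : (2 : F) = 0
        · have hs : (X ^ 2 - 1 : F[X]) = (X - 1) ^ 2 := by
            have : (2 : F[X]) = 0 := by rw [← map_ofNat C, h2, C_0]
            linear_combination (X - 1) * this
          have hd := (mem_filter.1 h).2.2
          rw [hs] at hd
          exact ((hirr hφ).prime.dvd_of_dvd_pow hd).trans (sub_one_dvd_pow_sub_one _ _)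
        · exact hdL (heven h2) (mem_filter.1 h).2.2
      · exact hdL ((Finset.dvd_lcm (f := fun h => q ^ h + 1)
          (mem_image_of_mem (fun φ => φ.natDegree / 2) h)).trans (Nat.dvd_lcm_left _ _))
          (hself hφ (mem_filter.1 h).2.1 (mem_filter.1 h).2.2).2.2
      · refine hdL ((Finset.dvd_lcm (f := fun d => q ^ d - 1)
          (mem_image_of_mem natDegree h)).trans (Nat.dvd_lcm_right _ _))
          (SpecLin.irreducible_dvd_X_pow_sub_one (hirr hφ) fun hX => hc0 hφ ?_)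
        exact X_dvd_iff.1 ((hirr hφ).associated_of_dvd irreducible_X hX).symm.dvd
    · have hSm' : S ≤ m := by rcases hN with rfl | ⟨rfl, -, -⟩ <;> omega
      calc (q - 1) * (L * p ^ (m - S)) = (q - 1) * L * p ^ (m - S) := (mul_assoc _ _ _).symm
        _ ≤ q * q ^ S * q ^ (m - S) := Nat.mul_le_mul hLq (Nat.pow_le_pow_left hpq _)
        _ = q ^ (m + 1) := by rw [mul_assoc, ← pow_add, Nat.add_sub_cancel' hSm', pow_succ']

end CfsgLib.ReciprocalOrder
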