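import Mathlib
import Cfsg.Agent.Lib.ReciprocalOrder.Core

/-!
An isometry of a non-degenerate bilinear form in dimension at most `2m + 1` over a finite field
with `q` elements has a power `A ^ k = ± 1` with `(q - 1) k ≤ q ^ (m + 1)`.
-/

set_option autoImplicit false

namespace CfsgLib.ReciprocalOrder

open Matrix Polynomial

variable {F : Type*} [Field F] {ι : Type*} [Fintype ι] [DecidableEq ι] {A J : Matrix ι ι F}

theorem adjoint_mul (hJ : IsUnit J.det) (h : Aᵀ * J * A = J) : (J⁻¹ * Aᵀ * J) * A = 1 := by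
  rw [mul_assoc, mul_assoc, ← mul_assoc Aᵀ, h, Matrix.nonsing_inv_mul _ hJ]

theorem aeval_adjoint (hJ : IsUnit J.det) (P : F[X]) :
    aeval (J⁻¹ * Aᵀ * J) P = J⁻¹ * (aeval A P)ᵀ * J := by
  induction P using Polynomial.induction_on' with
  | add P Q hP hQ => rw [map_add, map_add, hP, hQ, transpose_add, mul_add, add_mul]
  | monomial j a =>
    have hpow : (J⁻¹ * Aᵀ * J) ^ j = J⁻¹ * (A ^ j)ᵀ * J := by
      induction j with
      | zero => simp [Matrix.nonsing_inv_mul _ hJ]
      | succ j ih =>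
        rw [pow_succ, ih, pow_succ' A, transpose_mul]
        simp only [mul_assoc]
        rw [← mul_assoc J J⁻¹, Matrix.mul_nonsing_inv _ hJ, one_mul]
    rw [aeval_monomial, aeval_monomial, hpow, Algebra.algebraMap_eq_smul_one, smul_mul_assoc, one_mul,
      smul_mul_assoc, one_mul, transpose_smul, mul_smul_comm, smul_mul_assoc]

theorem aeval_reflect_inv {B : Matrix ι ι F} (hBA : B * A = 1) (N : ℕ) (P : F[X])
    (hP : P.natDegree ≤ N) : aeval A (P.reflect N) = A ^ N * aeval B P := by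
  have hc : Commute A B := (mul_eq_one_comm.1 hBA).trans hBA.symm
  refine induction_with_natDegree_le
    (fun P => aeval A (P.reflect N) = A ^ N * aeval B P) N ?_ ?_ ?_ P hP
  · simp
  · intro j r _ hjN
    rw [reflect_C_mul_X_pow, revAt_le hjN, map_mul, map_mul, map_pow, map_pow, aeval_X, aeval_X, aeval_C,
      aeval_C, Algebra.algebraMap_eq_smul_one, smul_mul_assoc, one_mul, smul_mul_assoc, one_mul,
      mul_smul_comm]
    congr 1
    conv_rhs => rw [← Nat.sub_add_cancel hjN]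
    rw [pow_add, mul_assoc, ← hc.mul_pow, mul_eq_one_comm.1 hBA, one_pow, mul_one]
  · intro f g _ _ hf hg
    rw [reflect_add, map_add, map_add, hf, hg, mul_add]

theorem minpoly_dvd_reverse (hJ : IsUnit J.det) (h : Aᵀ * J * A = J) :
    minpoly F A ∣ (minpoly F A).reverse := by
  refine minpoly.dvd F A ?_
  rw [reverse, aeval_reflect_inv (adjoint_mul hJ h) _ _ le_rfl, aeval_adjoint hJ, minpoly.aeval,
    transpose_zero, mul_zero, zero_mul, mul_zero]

theorem coeff_zero_minpoly_ne_zero {B : Matrix ι ι F} (hBA : B * A = 1) :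
    (minpoly F A).coeff 0 ≠ 0 := by
  intro h
  obtain ⟨Q, hQ⟩ := X_dvd_iff.2 h
  have hne : minpoly F A ≠ 0 := minpoly.ne_zero (Matrix.isIntegral A)
  have hQne : Q ≠ 0 := by rintro rfl; exact hne (by rw [hQ, mul_zero])
  have h0 := minpoly.aeval F A
  rw [hQ, map_mul, aeval_X] at h0
  have hQ0 : aeval A Q = 0 := by
    rw [← one_mul (aeval A Q), ← hBA, mul_assoc, h0, mul_zero]
  have hd := natDegree_le_of_dvd (minpoly.dvd F A hQ0) hQne
  rw [hQ, natDegree_mul X_ne_zero hQne, natDegree_X] at hd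
  omega

variable [Fintype F]

theorem exists_sign_power {m : ℕ} (hm : 2 ≤ m)
    (hι : Fintype.card ι = 2 * m ∨ (Fintype.card ι = 2 * m + 1 ∧ 3 ≤ m ∧ (2 : F) ≠ 0))
    (hJ : IsUnit J.det) (h : Aᵀ * J * A = J) :
    ∃ k, 0 < k ∧ ∃ ν : F, ν * ν = 1 ∧ A ^ k = ν • 1 ∧
      (Fintype.card F - 1) * k ≤ Fintype.card F ^ (m + 1) := by
  have hdeg : (minpoly F A).natDegree ≤ Fintype.card ι := by
    have := natDegree_le_of_dvd (Matrix.minpoly_dvd_charpoly A) (Matrix.charpoly_monic A).ne_zero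
    rwa [Matrix.charpoly_natDegree_eq_dim] at this
  obtain ⟨k, hk, ν, hν, hdvd, hle⟩ := exists_exponent (minpoly.ne_zero (Matrix.isIntegral A))
    (coeff_zero_minpoly_ne_zero (adjoint_mul hJ h)) (minpoly_dvd_reverse hJ h) hdeg hm hι
  refine ⟨k, hk, ν, hν, ?_, hle⟩
  have h1 : aeval A (X ^ k - C ν) = 0 := by
    obtain ⟨c, hc⟩ := hdvd
    rw [hc, map_mul, minpoly.aeval, zero_mul]
  simpa [sub_eq_zero, Algebra.algebraMap_eq_smul_one] using h1

end CfsgLib.ReciprocalOrder
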